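import Groth.Agent.Flat2C.SmoothDim
import Groth.Agent.VarietyB.DimTop
import Mathlib.AlgebraicGeometry.Fiber
import Mathlib.AlgebraicGeometry.Morphisms.Smooth
import Mathlib.Topology.KrullDimension

/-!
# The fibres of a smooth morphism of relative dimension `d` have dimension at most `d`
-/

set_option autoImplicit false
universe u

open CategoryTheory CategoryTheory.Limits AlgebraicGeometry

namespace Groth.Agent.Etdl.H426.FibDim

/-- An affine scheme smooth of relative dimension `d` over a field has dimension at most `d`. -/
theorem affine_le {k : CommRingCat.{u}} (hk : IsField k) (d : ℕ) {U : Scheme.{u}} [IsAffine U]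
    (f : U ⟶ Spec k) [SmoothOfRelativeDimension d f] :
    topologicalKrullDim U ≤ d := by
  let _ : Field k := hk.toField
  let e := U.isoSpec
  have h1 : topologicalKrullDim U = ringKrullDim Γ(U, ⊤) := by
    rw [← PrimeSpectrum.topologicalKrullDim_eq_ringKrullDim]
    exact IsHomeomorph.topologicalKrullDim_eq _ (Scheme.homeoOfIso e).isHomeomorph
  have h2 : SmoothOfRelativeDimension d (e.inv ≫ f) :=
    MorphismProperty.RespectsIso.precomp (@SmoothOfRelativeDimension d) e.inv f inferInstance
  have h3 : Spec.map (Spec.preimage (e.inv ≫ f)) = e.inv ≫ f := Spec.map_preimage _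
  rw [← h3, HasRingHomProperty.Spec_iff (P := @SmoothOfRelativeDimension d)] at h2
  rw [h1]
  let _ : Algebra k Γ(U, ⊤) := (Spec.preimage (e.inv ≫ f)).hom.toAlgebra
  exact Groth.Agent.Flat2C.SmoothDim.ringKrullDim_le_of_locally d k Γ(U, ⊤) h2

/-- A scheme smooth of relative dimension `d` over a field has dimension at most `d`. -/
theorem field_le {k : CommRingCat.{u}} (hk : IsField k) (d : ℕ) {X : Scheme.{u}}
    (f : X ⟶ Spec k) [SmoothOfRelativeDimension d f] : topologicalKrullDim X ≤ d := by
  refine Groth.Agent.VarietyB.DimTop.topologicalKrullDim_le_of_forall fun x => ?_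
  obtain ⟨_, ⟨U, hU, rfl⟩, hx, -⟩ :=
    X.isBasis_affineOpens.exists_subset_of_mem_open (Set.mem_univ x) isOpen_univ
  change X.Opens at U
  refine ⟨U, hx, ?_⟩
  have : IsAffine U := hU
  have : SmoothOfRelativeDimension d (U.ι ≫ f) := by
    have : SmoothOfRelativeDimension (0 + d) (U.ι ≫ f) := inferInstance
    rwa [zero_add] at this
  exact affine_le hk d (U.ι ≫ f)

/-- The fibres of a smooth morphism of relative dimension `d` have dimension at most `d`. -/
theorem fiber_le (d : ℕ) {X S : Scheme.{u}} (f : X ⟶ S) [SmoothOfRelativeDimension d f] (s : S) :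
    topologicalKrullDim ↥(f.fiber s) ≤ d := by
  have := smoothOfRelativeDimension_isStableUnderBaseChange.{u} d
  have : SmoothOfRelativeDimension d (f.fiberToSpecResidueField s) :=
    MorphismProperty.pullback_snd (P := @SmoothOfRelativeDimension d) _ _ inferInstance
  exact field_le (Field.toIsField (S.residueField s)) d (f.fiberToSpecResidueField s)

end Groth.Agent.Etdl.H426.FibDim
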