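import Groth.Agent.S1361
import Groth.Agent.Sga4B.SmoothNormal
import Groth.Agent.Ega1.GenPts
import Groth.Agent.Flat2B.SmoothGeom
import Mathlib.AlgebraicGeometry.Geometrically.Connected
import Mathlib.AlgebraicGeometry.Morphisms.QuasiFinite
import Mathlib.AlgebraicGeometry.Sites.Etale

/-!
# Étale neighbourhoods with connected geometric fibres

Let `f : X ⟶ S` be smooth and `U` étale over `X`.  Every point of `U` is in the image of an étale `V ⟶ U` with `V`
affine, such that `V ⟶ S` factors through a separated étale `S₁ ⟶ S` over which `V` is smooth, quasi-compact and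
separated, with irreducible geometric fibres (in particular, surjective).
-/

set_option autoImplicit false
set_option backward.isDefEq.respectTransparency.types false
universe u

open CategoryTheory CategoryTheory.Limits AlgebraicGeometry

namespace Groth.Agent.Etdl.H426.ConnNhd

/-- A morphism between schemes over `S` is smooth if the source is smooth and the target is étale over `S`. -/
theorem smooth_of_comp {X T S : Scheme.{u}} (b : X ⟶ T) (c : T ⟶ S) [Etale c] [Smooth (b ≫ c)] : Smooth b := by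
  have h0 : MorphismProperty.IsMultiplicative @Smooth :=
    { id_mem := fun A => inferInstanceAs (Smooth (𝟙 A))
      comp_mem := fun f g hf hg => by
        have : Smooth f := hf
        have : Smooth g := hg
        exact inferInstanceAs (Smooth (f ≫ g)) }
  have h : MorphismProperty.HasOfPostcompProperty @Smooth @Etale := by
    rw [MorphismProperty.hasOfPostcompProperty_iff_le_diagonal]
    intro A B g hg
    have : Etale g := hg
    have h1 : IsOpenImmersion (pullback.diagonal g) := inferInstance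
    exact inferInstanceAs (Smooth (pullback.diagonal g))
  exact h.of_postcomp b c inferInstance inferInstance

/-- A connected scheme smooth over a field is irreducible. -/
theorem irreducibleSpace_of_smooth {X : Scheme.{u}} {k : Type u} [Field k] (p : X ⟶ Spec (CommRingCat.of k))
    [Smooth p] [ConnectedSpace X] : IrreducibleSpace X := by
  have h1 : IsLocallyNoetherian X := LocallyOfFiniteType.isLocallyNoetherian p
  have h2 : IsIntegral X := by
    rw [Groth.Agent.Ega1.GenPts.isIntegral_iff]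
    exact ⟨inferInstance, fun x => (Groth.Agent.Sga4B.SmoothNormal.isNormalScheme_of_smooth p x).1⟩
  infer_instance

theorem irreducibleSpace_pullback {X S : Scheme.{u}} (p : X ⟶ S) [Smooth p] [GeometricallyConnected p]
    {Ω : Type u} [Field Ω] (s : Spec (CommRingCat.of Ω) ⟶ S) : IrreducibleSpace ↥(pullback p s) := by
  have h1 : ConnectedSpace ↥(pullback p s) :=
    GeometricallyConnected.geometrically_connectedSpace _ _ _ (.of_hasPullback _ _)
  exact irreducibleSpace_of_smooth (pullback.snd p s)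

theorem isSeparated_of_isAffine {X Y : Scheme.{u}} (f : X ⟶ Y) [X.IsSeparated] : IsSeparated f := by
  have h : IsSeparated (f ≫ terminal.from Y) := by
    rw [terminal.comp_from]
    infer_instance
  exact IsSeparated.of_comp f (terminal.from Y)

/-- The open image. -/
theorem shrink {X T : Scheme.{u}} (b : X ⟶ T) [Smooth b] [GeometricallyConnected b] (x : X) :
    ∃ (V : X.Opens) (W : T.Opens) (b' : V.toScheme ⟶ W.toScheme), x ∈ V ∧ IsAffineOpen V ∧
      W.toScheme.IsSeparated ∧ b' ≫ W.ι = V.ι ≫ b ∧ Smooth b' ∧ QuasiCompact b' ∧ IsSeparated b' ∧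
      Surjective b' ∧ ∀ (Ω : Type u) [Field Ω] (s : Spec (CommRingCat.of Ω) ⟶ W.toScheme),
        IrreducibleSpace ↥(pullback b' s) := by
  obtain ⟨T₀, hT₀, hxT₀, -⟩ := exists_isAffineOpen_mem_and_subset (U := (⊤ : T.Opens)) (x := b x) trivial
  obtain ⟨V, hV, hxV, hVT⟩ := exists_isAffineOpen_mem_and_subset (U := b ⁻¹ᵁ T₀) (x := x) hxT₀
  let W : T.Opens := ⟨b '' (V : Set X), b.isOpenMap _ V.2⟩
  have hWT : W ≤ T₀ := by
    rintro _ ⟨y, hy, rfl⟩
    exact hVT hy
  have hr : Set.range (V.ι ≫ b) = Set.range W.ι := by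
    rw [Scheme.Opens.range_ι]
    ext y
    constructor
    · rintro ⟨v, rfl⟩
      exact ⟨V.ι v, v.2, rfl⟩
    · rintro ⟨v, hv, rfl⟩
      exact ⟨⟨v, hv⟩, rfl⟩
  let b' : V.toScheme ⟶ W.toScheme := IsOpenImmersion.lift W.ι (V.ι ≫ b) hr.le
  have hb' : b' ≫ W.ι = V.ι ≫ b := IsOpenImmersion.lift_fac _ _ _
  have hsep : W.toScheme.IsSeparated := by
    have h0 : IsAffine T₀.toScheme := hT₀
    have h1 : terminal.from W.toScheme = T.homOfLE hWT ≫ terminal.from T₀.toScheme := by
      rw [terminal.comp_from]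
    refine ⟨?_⟩
    rw [h1]
    infer_instance
  have hVaff : IsAffine V.toScheme := hV
  have hsm : Smooth (b' ≫ W.ι) := by
    rw [hb']
    infer_instance
  have hsm' : Smooth b' := smooth_of_comp b' W.ι
  have hqc : QuasiCompact b' := by
    have h : QuasiCompact (b' ≫ terminal.from W.toScheme) := by
      rw [terminal.comp_from]
      infer_instance
    exact QuasiCompact.of_comp b' (terminal.from W.toScheme)
  have hsurj : Surjective b' := by
    refine ⟨fun w => ?_⟩
    have h1 : W.ι w ∈ Set.range (V.ι ≫ b) := by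
      rw [hr]
      exact ⟨w, rfl⟩
    obtain ⟨v, hv⟩ := h1
    refine ⟨v, W.ι.injective ?_⟩
    rw [← hv, ← hb']
    rfl
  refine ⟨V, W, b', hxV, hV, hsep, hb', hsm', hqc, isSeparated_of_isAffine b', hsurj, fun Ω _ s => ?_⟩
  have h1 : IrreducibleSpace ↥(pullback b (s ≫ W.ι)) := irreducibleSpace_pullback b (s ≫ W.ι)
  let j : pullback b' s ⟶ pullback b (s ≫ W.ι) :=
    pullback.map b' s b (s ≫ W.ι) V.ι (𝟙 _) W.ι hb' (by simp)
  have h2 : IsOpenImmersion j := inferInstance
  have h3 : IsPreirreducible (Set.univ : Set ↥(pullback b' s)) := by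
    have h4 : IsPreirreducible (Set.univ : Set ↥(pullback b (s ≫ W.ι))) := PreirreducibleSpace.isPreirreducible_univ
    exact h4.preimage j.isOpenEmbedding
  have h5 : Nonempty ↥(pullback b' s) := by
    have h6 : Surjective (pullback.snd b' s) := inferInstance
    obtain ⟨p⟩ : Nonempty ↥(Spec (CommRingCat.of Ω)) := inferInstance
    exact ⟨(h6.surj p).choose⟩
  exact { isPreirreducible_univ := h3, toNonempty := h5 }

/-- The neighbourhood, as schemes. -/
theorem exists_pair {X S : Scheme.{u}} (f : X ⟶ S) [Smooth f] (x : X) :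
    ∃ (V T : Scheme.{u}) (a : V ⟶ X) (b : V ⟶ T) (c : T ⟶ S), Etale a ∧ x ∈ Set.range a ∧ Etale c ∧
      b ≫ c = a ≫ f ∧ IsAffine V ∧ T.IsSeparated ∧ Smooth b ∧ QuasiCompact b ∧ IsSeparated b ∧ Surjective b ∧
      ∀ (Ω : Type u) [Field Ω] (s : Spec (CommRingCat.of Ω) ⟶ T), IrreducibleSpace ↥(pullback b s) := by
  have hgr : GeometricallyReduced f := Flat2B.SmoothGeom.geometricallyReduced_of_smooth f
  obtain ⟨X', S', a, b, c, ha, ⟨x', rfl⟩, hc, hcomm, -, -, -, -, hconn, -⟩ := Groth.Agent.S1361.result f x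
  have hsm : Smooth (b ≫ c) := by
    rw [← hcomm]
    infer_instance
  have hsm' : Smooth b := smooth_of_comp b c
  obtain ⟨V, W, b', hxV, hV, hsep, hb', h1, h2, h3, h4, h5⟩ := shrink b x'
  refine ⟨V.toScheme, W.toScheme, V.ι ≫ a, b', W.ι ≫ c, inferInstance, ⟨⟨x', hxV⟩, rfl⟩, inferInstance, ?_, hV,
    hsep, h1, h2, h3, h4, h5⟩
  rw [reassoc_of% hb', Category.assoc, hcomm]

/-- **The neighbourhood, in the étale sites.** -/
theorem exists_nhd {X S : Scheme.{u}} (f : X ⟶ S) [Smooth f] (U : X.Etale) (x : U.left) :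
    ∃ (V : X.Etale) (g : V ⟶ U) (S₁ : S.Etale) (b : V.left ⟶ S₁.left), x ∈ Set.range g.left ∧
      b ≫ S₁.hom = V.hom ≫ f ∧ IsAffine V.left ∧ S₁.left.IsSeparated ∧ IsSeparated V.hom ∧ IsSeparated S₁.hom ∧
      Smooth b ∧ Flat b ∧ QuasiCompact b ∧ IsSeparated b ∧ Surjective b ∧
      (∀ (Ω : Type u) [Field Ω] (s : Spec (CommRingCat.of Ω) ⟶ S₁.left), IrreducibleSpace ↥(pullback b s)) ∧
      ∀ (Ω : Type u) [Field Ω] [IsAlgClosed Ω] (s : Spec (CommRingCat.of Ω) ⟶ S₁.left),
        ConnectedSpace ↥(pullback b s) := by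
  have hU : Etale U.hom := U.prop
  obtain ⟨V, T, a, b, c, ha, hx, hc, hcomm, hV, hT, h1, h2, h3, h4, h5⟩ := exists_pair (U.hom ≫ f) x
  have hfl : Flat b := inferInstance
  have h6 : ∀ (Ω : Type u) [Field Ω] [IsAlgClosed Ω] (s : Spec (CommRingCat.of Ω) ⟶ T),
      ConnectedSpace ↥(pullback b s) := fun Ω _ _ s =>
    have := h5 Ω s
    inferInstance
  refine ⟨Scheme.Etale.mk (a ≫ U.hom), MorphismProperty.Over.homMk a rfl trivial, Scheme.Etale.mk c, b, hx, ?_, hV, hT,
    ?_, ?_, h1, hfl, h2, h3, h4, h5, h6⟩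
  · exact hcomm.trans (Category.assoc _ _ _).symm
  · exact isSeparated_of_isAffine (a ≫ U.hom)
  · exact isSeparated_of_isAffine c

end Groth.Agent.Etdl.H426.ConnNhd
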