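import Groth.Agent.Etdl.H426.Iface
import Groth.Agent.Etdl.H423.ModBasic
import Groth.Agent.Sga4B.LMJF

/-!
# Local vanishing: from abelian sheaves to sheaves of modules
-/

set_option autoImplicit false
universe u

open CategoryTheory CategoryTheory.Limits AlgebraicGeometry Opposite

namespace Groth.Agent.Etdl.H426.EffMod

open Groth.Agent.Etcore Groth.Agent.Etrest.ModAb Groth.Agent.Etdl.H423.ModBasic
open Groth.Agent.Etdl.H426.Iface

theorem map_eq_zero_of_iso {C D : Type*} [Category* C] [Category* D] [Preadditive D] {F G : C ⥤ D}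
    (e : F ≅ G) {X Y : C} (φ : X ⟶ Y) (h : F.map φ = 0) : G.map φ = 0 := by
  have h1 := e.inv.naturality φ
  rw [h, comp_zero] at h1
  rw [← cancel_mono (e.inv.app Y), h1, zero_comp]

section

variable (Λ : Type (u + 1)) [CommRing Λ] {X S : Scheme.{u}} {f : X ⟶ S}
  (c : DEt.Compactification f) (q : ℕ)

/-- `R^q f_!` commutes with passing to the underlying abelian sheaves. -/
noncomputable def rshAbIso : Rsh Λ c q ⋙ ab Λ S ≅
    ab Λ X ⋙ EtShriek.extZero c.j ⋙ EtCoh.Rpush c.fbar q :=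
  Functor.isoWhiskerLeft (EtDl.extZeroMod Λ c.j) (rpushIso Λ c.fbar q) ≪≫
    Functor.isoWhiskerRight (extAbIso Λ c.j) (EtCoh.Rpush c.fbar q)

end

/-- The passage from abelian sheaves to sheaves of modules. -/
theorem rsh_map_eq_zero {X S : Scheme.{u}} {f : X ⟶ S} (c : DEt.Compactification f) (n q : ℕ)
    {U V : X.Etale} (g : V ⟶ U)
    (h : (EtCoh.Rpush c.fbar q).map ((EtShriek.extZero c.j).map
      (Groth.Agent.Sga4B.DualShape.LSmap n g)) = 0) :
    (Rsh (Lam.{u} n) c q).map (LFree.map (Λ := Lam.{u} n) g) = 0 := by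
  apply (ab (Lam.{u} n) S).map_injective
  rw [Functor.map_zero]
  have h1 := map_eq_zero_of_iso (Functor.isoWhiskerRight (Groth.Agent.Sga4B.LMJF.lmjf n X)
    (EtShriek.extZero c.j ⋙ EtCoh.Rpush c.fbar q)) g h
  exact map_eq_zero_of_iso (rshAbIso (Lam.{u} n) c q).symm (LFree.map (Λ := Lam.{u} n) g) h1

end Groth.Agent.Etdl.H426.EffMod
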