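import Groth.Prelude.Def_EtDl
import Groth.Agent.Etcore.LFree

/-!
# Interface for Poincaré duality as an adjunction (S3727)

`T1 f ω = (L ↦ f^* L ⊗ ω)`, `Rsh c q = R^q f_!` (as a functor on sheaves of `Λ`-modules), and the two
geometric inputs of the proof of S3727:

* `StmtTrace` : a trace `tr : R^{2d} f_! (f^* L (d)) ⟶ L`, natural in the sheaf `L` on `S`, such that
  `Hom(Λ[V], f^* L(d)) ⟶ Hom(R^{2d} f_! Λ[V], L)`, `a ↦ R^{2d}f_!(a) ≫ tr_L` is bijective for all `L`,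
  for `V` small enough (a basis of the étale topology of `X`);
* `StmtEff` : for `q < 2 d` and `U` étale over `X`, locally on `U` the map
  `R^q f_! Λ[V] ⟶ R^q f_! Λ[U]` is zero.
-/

set_option autoImplicit false
universe u

open CategoryTheory CategoryTheory.Limits AlgebraicGeometry Opposite

namespace Groth.Agent.Etdl.H426.Iface

open Groth.Agent.Etcore

/-- The coefficient ring `ℤ/n`. -/
abbrev Lam (n : ℕ) : Type (u + 1) := ULift.{u + 1} (ZMod n)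

section

variable (Λ : Type (u + 1)) [CommRing Λ] {X S : Scheme.{u}}

/-- `L ↦ f^* L ⊗ ω`. -/
noncomputable abbrev T1 (f : X ⟶ S) (ω : EtModW.Mod Λ X) : EtModW.Mod Λ S ⥤ EtModW.Mod Λ X :=
  EtModW.pull Λ f ⋙ EtDl.twistBy Λ X ω

/-- `R^q f_!` on sheaves of `Λ`-modules, computed with the compactification `c`. -/
noncomputable abbrev Rsh {f : X ⟶ S} (c : DEt.Compactification f) (q : ℕ) :
    EtModW.Mod Λ X ⥤ EtModW.Mod Λ S :=
  EtDl.extZeroMod Λ c.j ⋙ EtModW.Rpush Λ c.fbar q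

end

section

variable {Λ : Type (u + 1)} [CommRing Λ] {X S : Scheme.{u}} {f : X ⟶ S} {c : DEt.Compactification f}
  {ω : EtModW.Mod Λ X} {N : ℕ}

/-- `Hom(M, f^* L ⊗ ω) ⟶ Hom(R^N f_! M, L)`, `a ↦ R^N f_!(a) ≫ tr_L`. -/
noncomputable def phi (tr : T1 Λ f ω ⋙ Rsh Λ c N ⟶ 𝟭 _) (M : EtModW.Mod Λ X) (L : EtModW.Mod Λ S)
    (a : M ⟶ (T1 Λ f ω).obj L) : (Rsh Λ c N).obj M ⟶ L :=
  (Rsh Λ c N).map a ≫ tr.app L

end

/-- INPUT 1 of S3727 (the trace map). -/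
def StmtTrace : Prop :=
  ∀ {X S : Scheme.{u}} [CompactSpace ↥X] [QuasiSeparatedSpace ↥X] [CompactSpace ↥S]
    [QuasiSeparatedSpace ↥S] {f : X ⟶ S} (d : ℕ) [SmoothOfRelativeDimension d f]
    (c : DEt.Compactification f) (n : ℕ) (_ : 0 < n) (_ : IsUnit (n : Γ(S, ⊤)))
    (μ : EtModW.Mod (Lam.{u} n) X) (_ : EtModD.IsKummer n μ),
    ∃ tr : T1 (Lam.{u} n) f (EtModD.tate μ d) ⋙ Rsh (Lam.{u} n) c (2 * d) ⟶ 𝟭 _,
      ∀ (U : X.Etale) (x : U.left), ∃ (V : X.Etale) (g : V ⟶ U), x ∈ Set.range g.left ∧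
        ∀ L : EtModW.Mod (Lam.{u} n) S, Function.Bijective (phi tr (LFree.LM (Lam.{u} n) V) L)

/-- INPUT 2 of S3727 (local vanishing), coefficients `ℤ/n`, sheaves of modules. -/
def StmtEff : Prop :=
  ∀ {X S : Scheme.{u}} [CompactSpace ↥X] [QuasiSeparatedSpace ↥X] [CompactSpace ↥S]
    [QuasiSeparatedSpace ↥S] {f : X ⟶ S} (d : ℕ) [SmoothOfRelativeDimension d f]
    (c : DEt.Compactification f) (n : ℕ) (_ : 0 < n) (_ : IsUnit (n : Γ(S, ⊤)))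
    (U : X.Etale) (x : U.left) (q : ℕ) (_ : q < 2 * d),
    ∃ (V : X.Etale) (g : V ⟶ U), x ∈ Set.range g.left ∧
      (Rsh (Lam.{u} n) c q).map (LFree.map (Λ := Lam.{u} n) g) = 0

end Groth.Agent.Etdl.H426.Iface
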