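import Groth.Agent.Sga5.H835.TensInv
import Groth.Agent.Sga5.H848.PullMu
import Groth.Agent.Sga4B.PDKummer
import Groth.Agent.Sga4h.MuLocal2
import Groth.Agent.Etrest.ModCons
import Groth.Prelude.Def_EtDl

/-!
# `Λ(d)` is invertible; the functor `- ⊗ Λ(d)` is an equivalence

* `isInvertible_kummer` : a Kummer sheaf of `ℤ/n`-modules is invertible if `n` is invertible;
* `isInvertible_tate` : so are its tensor powers;
* `isEquivalence_twistBy`, `preservesFiniteLimits_twistBy`, `preservesFiniteColimits_twistBy`.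
-/

set_option autoImplicit false
universe u

open CategoryTheory CategoryTheory.Limits AlgebraicGeometry Opposite

namespace Groth.Agent.Etdl.H426.TateInv

open Groth.Agent.Etrest.ModAb Groth.Agent.Sga4h.BidEtSh Groth.Agent.Sga5.H835.InvRes
open Groth.Agent.Sga5.H835.InvEquiv

variable {n : ℕ} {X : Scheme.{u}}

/-- The constant sheaf, its underlying abelian sheaf. -/
noncomputable def abConst (n : ℕ) (X : Scheme.{u}) :
    (ab (ULift.{u + 1} (ZMod n)) X).obj
      (EtModW.constMod (ULift.{u + 1} (ZMod n)) X (ULift.{u + 1} (ZMod n))) ≅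
      EtCoh.const X (ZMod n) :=
  (constIso (ULift.{u + 1} (ZMod n)) X).app
    (ModuleCat.of (ULift.{u + 1} (ZMod n)) (ULift.{u + 1} (ZMod n)))

/-- A Kummer sheaf is invertible if `n` is. -/
theorem isInvertible_kummer (hn : IsUnit (n : Γ(X, ⊤))) (μ : EtModW.Mod (ULift.{u + 1} (ZMod n)) X)
    (hμ : EtModD.IsKummer n μ) : SGA5.IsInvertible μ := by
  rw [isInvertible_iff]
  intro x
  obtain ⟨V, h, hh, v, hv, hn0, hnV, ⟨e⟩⟩ := Groth.Agent.Sga4h.MuLocal2.exists_local_iso n hn x
  refine ⟨V, h, hh, v, hv, ?_⟩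
  obtain ⟨i⟩ := hμ
  obtain ⟨e2⟩ := Groth.Agent.Sga4B.PDKummer.nonempty_iso_of_ab
    (F := (EtModW.pull (ULift.{u + 1} (ZMod n)) h).obj μ)
    (G := EtModW.constMod (ULift.{u + 1} (ZMod n)) V (ULift.{u + 1} (ZMod n)))
    ((pullIso (ULift.{u + 1} (ZMod n)) h).app μ ≪≫ (EtCoh.pull h).mapIso i ≪≫
      Groth.Agent.Sga5.H848.PullMu.pullMuIso h n hn ≪≫ e.symm ≪≫ (abConst n V).symm)
  exact ⟨(pullIsoResM (ULift.{u + 1} (ZMod n)) h).symm.app μ ≪≫ e2⟩

/-- `Λ(d)` is invertible. -/
theorem isInvertible_tate (hn : IsUnit (n : Γ(X, ⊤))) (μ : EtModW.Mod (ULift.{u + 1} (ZMod n)) X)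
    (hμ : EtModD.IsKummer n μ) (d : ℕ) : SGA5.IsInvertible (EtModD.tate μ d) := by
  induction d with
  | zero => exact isInvertible_cst (ULift.{u + 1} (ZMod n)) X
  | succ d ih => exact isInvertible_tensor ih (isInvertible_kummer hn μ hμ)

section

variable {Λ : Type (u + 1)} [CommRing Λ] {L : EtModW.Mod Λ X}

/-- `- ⊗ L` is an equivalence. -/
theorem isEquivalence_twistBy (hL : SGA5.IsInvertible L) : (EtDl.twistBy Λ X L).IsEquivalence :=
  Groth.Agent.Sga5.H835.TensInv.isEquivalence_tr hL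

theorem preservesFiniteLimits_twistBy (hL : SGA5.IsInvertible L) :
    PreservesFiniteLimits (EtDl.twistBy Λ X L) := by
  have := isEquivalence_twistBy hL
  infer_instance

theorem preservesFiniteColimits_twistBy (hL : SGA5.IsInvertible L) :
    PreservesFiniteColimits (EtDl.twistBy Λ X L) := by
  have := isEquivalence_twistBy hL
  infer_instance

end

end Groth.Agent.Etdl.H426.TateInv
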