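import Groth.Agent.Etdl.H424.PlusAdj
import Groth.Agent.Etrest.ModCons
import Groth.Agent.Sga4h.FunLES
import Groth.Agent.Etdl.H426.Iface

/-!
# `L ↦ (f^* L ⊗ ω)[e]` on `D^+`

If `- ⊗ ω` is exact, the functor `EtDl.twistedPullPlus Λ f ω e` is the right derived functor of
`T1 = (L ↦ f^* L ⊗ ω)`, shifted by `e`.
-/

set_option autoImplicit false
universe u

open CategoryTheory CategoryTheory.Limits AlgebraicGeometry Opposite

attribute [local instance] HasDerivedCategory.standard

namespace Groth.Agent.Etdl.H426.T1Plus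

open Groth.Agent.Etdl.H426.Iface

variable (Λ : Type (u + 1)) [CommRing Λ] {X S : Scheme.{u}} (f : X ⟶ S) (ω : EtModW.Mod Λ X)

instance additive_T1 : (T1 Λ f ω).Additive := inferInstance

theorem preservesFiniteLimits_T1 [PreservesFiniteLimits (EtDl.twistBy Λ X ω)] :
    PreservesFiniteLimits (T1 Λ f ω) := by
  have := Groth.Agent.Etrest.ModCons.preservesFiniteLimits_pull (Λ := Λ) f
  infer_instance

theorem preservesFiniteColimits_T1 [PreservesFiniteColimits (EtDl.twistBy Λ X ω)] :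
    PreservesFiniteColimits (T1 Λ f ω) := by
  have h : PreservesColimitsOfSize.{0, 0} (EtModW.pull Λ f) :=
    (EtDl.pullPushModAdj Λ f).leftAdjoint_preservesColimits
  have h' : PreservesFiniteColimits (EtModW.pull Λ f) :=
    PreservesColimitsOfSize.preservesFiniteColimits _
  infer_instance

/-- `(L ↦ f^* L ⊗ ω)^+`. -/
noncomputable def plusIso [PreservesFiniteLimits (EtDl.twistBy Λ X ω)]
    [PreservesFiniteColimits (EtDl.twistBy Λ X ω)] :
    EtDl.pullPlus Λ f ⋙ EtDl.twistPlus Λ X ω ≅ (T1 Λ f ω).rightDerivedFunctorPlus :=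
  Groth.Agent.Etdl.H424.PlusAdj.compIso (EtModW.pull Λ f) (EtDl.twistBy Λ X ω) (T1 Λ f ω)
    (Iso.refl _) (fun I _ i hi => by
      obtain ⟨n, rfl⟩ : ∃ n, i = n + 1 := ⟨i - 1, by lia⟩
      exact Groth.Agent.Sga4h.FunLES.isZero_rightDerived_of_exact _ _ n)

/-- `EtDl.twistedPullPlus` as a shifted right derived functor. -/
noncomputable def twistedPullPlusIso [PreservesFiniteLimits (EtDl.twistBy Λ X ω)]
    [PreservesFiniteColimits (EtDl.twistBy Λ X ω)] (e : ℤ) :
    EtDl.twistedPullPlus Λ f ω e ≅ (T1 Λ f ω).rightDerivedFunctorPlus ⋙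
      shiftFunctor (DerivedCategory.Plus (EtModW.Mod Λ X)) e :=
  (Functor.associator _ _ _).symm ≪≫ Functor.isoWhiskerRight (plusIso Λ f ω) _

end Groth.Agent.Etdl.H426.T1Plus
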