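import Groth.Agent.Etdl.H426.Cover
import Groth.Agent.Etdl.H426.EffMod
import Groth.Agent.Etdl.H426.T1Plus
import Groth.Agent.Etdl.H426.TateInv

/-!
# Assembly of Poincaré duality as an adjunction

`main`: the adjunction `Rf_! ⊣ (L ↦ f^* L(d)[2d])` on `D^+` from

* the generic theorem `StmtAdj` (derived adjunction from a sheaf-level trace),
* the vanishing of `R^q f_!` for `q > 2d` and the existence of a right adjoint of `Rf_!`,
* the trace, and the local vanishing of `R^q f_!`, `q < 2d`.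
-/

set_option autoImplicit false
universe u

open CategoryTheory CategoryTheory.Limits AlgebraicGeometry Opposite

attribute [local instance] HasDerivedCategory.standard

namespace Groth.Agent.Etdl.H426.Assemble

open Groth.Agent.Etcore Groth.Agent.Etdl.H426.Iface

/-- The generic theorem, in the case needed. -/
def StmtAdj : Prop :=
  ∀ {X P S : Scheme.{u}} (Λ : Type (u + 1)) [CommRing Λ]
    (j : EtModW.Mod Λ X ⥤ EtModW.Mod Λ P) [j.Additive] [PreservesFiniteLimits j]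
    [PreservesFiniteColimits j]
    (φ : EtModW.Mod Λ P ⥤ EtModW.Mod Λ S) [φ.Additive] [PreservesFiniteLimits φ]
    (T : EtModW.Mod Λ S ⥤ EtModW.Mod Λ X) [T.Additive] [PreservesFiniteLimits T]
    [PreservesFiniteColimits T] (N : ℕ)
    (_ : ∀ (M : EtModW.Mod Λ X) (i : ℕ), N < i → IsZero ((φ.rightDerived i).obj (j.obj M)))
    (tr : T ⋙ j ⋙ φ.rightDerived N ⟶ 𝟭 _)
    (_ : ∀ (J : EtModW.Mod Λ S) [Injective J] (M : EtModW.Mod Λ X),
      Function.Bijective (fun g : M ⟶ T.obj J => (φ.rightDerived N).map (j.map g) ≫ tr.app J))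
    (_ : ∀ i : ℕ, i < N → ∀ M : EtModW.Mod Λ X, ∃ (M' : EtModW.Mod Λ X) (p : M' ⟶ M),
      Epi p ∧ (φ.rightDerived i).map (j.map p) = 0)
    (_ : (j.rightDerivedFunctorPlus ⋙ φ.rightDerivedFunctorPlus).IsLeftAdjoint),
    Nonempty (j.rightDerivedFunctorPlus ⋙ φ.rightDerivedFunctorPlus ⊣
      T.rightDerivedFunctorPlus ⋙ shiftFunctor (DerivedCategory.Plus (EtModW.Mod Λ X)) (N : ℤ))

theorem main (hadj : StmtAdj.{u}) (hT : StmtTrace.{u}) (hE : StmtEff.{u}) {X S : Scheme.{u}}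
    [CompactSpace ↥X] [QuasiSeparatedSpace ↥X] [CompactSpace ↥S] [QuasiSeparatedSpace ↥S]
    {f : X ⟶ S} (d : ℕ) [SmoothOfRelativeDimension d f] (c : DEt.Compactification f)
    (n : ℕ) (hn0 : 0 < n) (hn : IsUnit (n : Γ(S, ⊤)))
    (μ : EtModW.Mod (ULift.{u + 1} (ZMod n)) X) (hμ : EtModD.IsKummer n μ)
    (hvan : ∀ (M : EtModW.Mod (ULift.{u + 1} (ZMod n)) X) (i : ℕ), 2 * d < i →
      IsZero ((Rsh (ULift.{u + 1} (ZMod n)) c i).obj M))
    (hC : ∀ (q : ℕ) (ι : Type (u + 1)),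
      PreservesColimitsOfShape (Discrete ι) (EtModW.Rpush (ULift.{u + 1} (ZMod n)) c.fbar q))
    (hL : (EtDl.RshriekPlus (ULift.{u + 1} (ZMod n)) c).IsLeftAdjoint) :
    Nonempty (EtDl.RshriekPlus (ULift.{u + 1} (ZMod n)) c ⊣
      EtDl.twistedPullPlus (ULift.{u + 1} (ZMod n)) f (EtModD.tate μ d) (2 * (d : ℤ))) := by
  obtain ⟨tr, htr⟩ := hT d c n hn0 hn μ hμ
  have hnX : IsUnit (n : Γ(X, ⊤)) := by
    have := hn.map f.appTop.hom
    rwa [map_natCast] at this
  have hinv := TateInv.isInvertible_tate hnX μ hμ d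
  have h1 := TateInv.preservesFiniteLimits_twistBy hinv
  have h2 := TateInv.preservesFiniteColimits_twistBy hinv
  have h3 := T1Plus.preservesFiniteLimits_T1 (ULift.{u + 1} (ZMod n)) f (EtModD.tate μ d)
  have h4 := T1Plus.preservesFiniteColimits_T1 (ULift.{u + 1} (ZMod n)) f (EtModD.tate μ d)
  obtain ⟨adj⟩ := hadj (ULift.{u + 1} (ZMod n)) (EtDl.extZeroMod _ c.j) (EtModW.push _ c.fbar)
    (T1 _ f (EtModD.tate μ d)) (2 * d) hvan tr
    (fun J _ M => Cover.bijective_phi c (fun M => hvan M _ (by lia)) (hC _) tr J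
      (fun U x => by
        obtain ⟨V, g, hx, h⟩ := htr U x
        exact ⟨V, g, hx, h J⟩) M)
    (fun i hi M => Cover.exists_epi_kill c i (hC _) (fun U x => hE d c n hn0 hn U x i hi) M) hL
  have e := T1Plus.twistedPullPlusIso (ULift.{u + 1} (ZMod n)) f (EtModD.tate μ d) (2 * (d : ℤ))
  exact ⟨adj.ofNatIsoRight e.symm⟩

end Groth.Agent.Etdl.H426.Assemble
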