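import Mathlib.CategoryTheory.Abelian.Basic
import Mathlib.CategoryTheory.Limits.Preserves.Shapes.Products
import Mathlib.CategoryTheory.Limits.Shapes.Products

/-!
# From a generating family to all objects

`P : A ⥤ B`, `T : B ⥤ A`, `tr : T ⋙ P ⟶ 𝟭 B`.  If `P` preserves epimorphisms, zero morphisms, and
carries the inclusions of some coproducts to jointly epimorphic families, then the bijectivity of
`Hom(M, T L) ⟶ Hom(P M, L)` for `M` in a generating family implies it for all `M`.
-/

set_option autoImplicit false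
universe w v v' u u'

open CategoryTheory CategoryTheory.Limits

namespace Groth.Agent.Etdl.H426.Bij

variable {A : Type u} [Category.{v} A] {B : Type u'} [Category.{v'} B]
  {P : A ⥤ B} {T : B ⥤ A} (tr : T ⋙ P ⟶ 𝟭 B)

/-- `a ↦ P(a) ≫ tr_L`. -/
def ph (M : A) (L : B) (a : M ⟶ T.obj L) : P.obj M ⟶ L := P.map a ≫ tr.app L

theorem ph_comp {M M' : A} (p : M' ⟶ M) (L : B) (a : M ⟶ T.obj L) :
    ph tr M' L (p ≫ a) = P.map p ≫ ph tr M L a := by
  simp [ph]

/-- If `P(ι_i)` are jointly epimorphic, bijectivity passes to coproducts. -/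
theorem bijective_sigma {ι : Type w} (V : ι → A) [HasCoproduct V] (L : B)
    (hepi : ∀ (b b' : P.obj (∐ V) ⟶ L), (∀ i, P.map (Sigma.ι V i) ≫ b = P.map (Sigma.ι V i) ≫ b') →
      b = b')
    (hV : ∀ i, Function.Bijective (ph tr (V i) L)) : Function.Bijective (ph tr (∐ V) L) := by
  constructor
  · intro a b h
    refine Sigma.hom_ext _ _ fun i => (hV i).1 ?_
    rw [ph_comp, ph_comp, h]
  · intro b
    choose a ha using fun i => (hV i).2 (P.map (Sigma.ι V i) ≫ b)
    refine ⟨Sigma.desc a, hepi _ _ fun i => ?_⟩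
    rw [← ph_comp, Sigma.ι_desc, ha]

/-- Injectivity passes to quotients. -/
theorem injective_of_epi {M M' : A} (p : M' ⟶ M) [Epi p] (L : B)
    (h : Function.Injective (ph tr M' L)) : Function.Injective (ph tr M L) := by
  intro a b hab
  rw [← cancel_epi p]
  apply h
  rw [ph_comp, ph_comp, hab]

variable [Abelian A] [Preadditive B] [P.PreservesZeroMorphisms]

/-- Surjectivity passes to quotients if injectivity is known for the kernel. -/
theorem surjective_of_epi {M M' : A} (p : M' ⟶ M) [Epi p] [Epi (P.map p)] (L : B)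
    (h : Function.Surjective (ph tr M' L)) (hK : Function.Injective (ph tr (kernel p) L)) :
    Function.Surjective (ph tr M L) := by
  intro b
  obtain ⟨a', ha'⟩ := h (P.map p ≫ b)
  have h0 : kernel.ι p ≫ a' = 0 := by
    apply hK
    rw [ph_comp, ha', ← Category.assoc, ← P.map_comp, kernel.condition, P.map_zero, zero_comp]
    simp [ph]
  obtain ⟨a, ha⟩ := CokernelCofork.IsColimit.desc' (Abelian.epiIsCokernelOfKernel
    (KernelFork.ofι (kernel.ι p) (kernel.condition p)) (kernelIsKernel p)) a' h0
  refine ⟨a, ?_⟩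
  have h1 : p ≫ a = a' := ha
  rw [← cancel_epi (P.map p), ← ph_comp, h1, ha']

/-- Bijectivity on a generating family of coproducts implies bijectivity. -/
theorem bijective_of_generates (L : B)
    (hG : ∀ M : A, ∃ (M' : A) (p : M' ⟶ M), Epi p ∧ Function.Bijective (ph tr M' L))
    (hP : ∀ {M M' : A} (p : M' ⟶ M) [Epi p], Epi (P.map p)) (M : A) :
    Function.Bijective (ph tr M L) := by
  have hinj : ∀ M : A, Function.Injective (ph tr M L) := by
    intro M
    obtain ⟨M', p, hp, hb⟩ := hG M
    exact injective_of_epi tr p L hb.1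
  refine ⟨hinj M, ?_⟩
  obtain ⟨M', p, hp, hb⟩ := hG M
  have := hP p
  exact surjective_of_epi tr p L hb.2 (hinj _)

end Groth.Agent.Etdl.H426.Bij
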