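import Mathlib.AlgebraicGeometry.Morphisms.Etale
import Mathlib.AlgebraicGeometry.Morphisms.FlatMono
import Mathlib.AlgebraicGeometry.Morphisms.Separated
import Mathlib.AlgebraicGeometry.PullbackCarrier

/-!
# Isolating a section in the preimage of a closed subscheme under an étale morphism
-/

set_option autoImplicit false
universe u

open CategoryTheory CategoryTheory.Limits AlgebraicGeometry

namespace Groth.Agent.Etdl.H426.Isol

/-- A lift of an open immersion along an étale morphism is an open immersion. -/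
theorem isOpenImmersion_lift {X Y T : Scheme.{u}} (p : Y ⟶ X) [Etale p] (j : T ⟶ X)
    [IsOpenImmersion j] (s : T ⟶ Y) (hs : s ≫ p = j) : IsOpenImmersion s := by
  have h1 : Etale (s ≫ p) := by rw [hs]; infer_instance
  have h2 : Etale s := Etale.of_comp s p
  have h3 : Mono s := by
    have : Mono (s ≫ p) := by rw [hs]; infer_instance
    exact mono_of_mono s p
  exact IsOpenImmersion.of_flat_of_mono s

/-- Let `Φ : W ⟶ Y` be étale, `z : L ⟶ Y` a closed immersion, `j : T ⟶ L` an open immersion and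
`σ : T ⟶ W` a lift of `j ≫ z`. There is an open subscheme of `W` in which the preimage of `z(L)` is
exactly `σ(T)`. -/
theorem exists_isolating {W Y T L : Scheme.{u}} (Φ : W ⟶ Y) [Etale Φ] (z : L ⟶ Y)
    [IsClosedImmersion z] (j : T ⟶ L) [IsOpenImmersion j] (σ : T ⟶ W) (h : σ ≫ Φ = j ≫ z) :
    ∃ W' : W.Opens, (∀ t, σ t ∈ W') ∧ ∀ w ∈ W', Φ w ∈ Set.range z → w ∈ Set.range σ := by
  let s : T ⟶ pullback Φ z := pullback.lift σ j h
  have hs : s ≫ pullback.snd Φ z = j := pullback.lift_snd _ _ _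
  have hs1 : s ≫ pullback.fst Φ z = σ := pullback.lift_fst _ _ _
  have hso : IsOpenImmersion s := isOpenImmersion_lift (pullback.snd Φ z) j s hs
  have hc1 : IsClosed ((Set.range s)ᶜ : Set ↥(pullback Φ z)) :=
    s.isOpenEmbedding.isOpen_range.isClosed_compl
  have hc2 : IsClosed (pullback.fst Φ z '' (Set.range s)ᶜ) :=
    (pullback.fst Φ z).isClosedEmbedding.isClosedMap _ hc1
  refine ⟨⟨_, hc2.isOpen_compl⟩, fun t => ?_, fun w hw hwz => ?_⟩
  · rintro ⟨y, hy, hyt⟩
    apply hy
    have h1 : pullback.fst Φ z y = pullback.fst Φ z (s t) := by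
      rw [hyt, ← hs1, Scheme.Hom.comp_apply]
    exact ⟨t, ((pullback.fst Φ z).isClosedEmbedding.injective h1).symm⟩
  · obtain ⟨t, ht⟩ := hwz
    obtain ⟨y, hy, -⟩ := Scheme.Pullback.exists_preimage_pullback w t ht.symm
    by_contra hcon
    refine hw ⟨y, fun ⟨t', ht'⟩ => hcon ⟨t', ?_⟩, hy⟩
    rw [← hs1, Scheme.Hom.comp_apply, ht', hy]

end Groth.Agent.Etdl.H426.Isol
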