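import Groth.Agent.Sga4h.ConstCrit
import Groth.Agent.Sga4h.FamAdd
import Groth.Agent.Etdl.H440.FamGlue

/-!
# A sheaf with a local family of germs which is a basis at all algebraically closed points is constant
-/

set_option autoImplicit false
set_option backward.isDefEq.respectTransparency.types false
universe u

open CategoryTheory CategoryTheory.Limits AlgebraicGeometry Opposite

namespace Groth.Agent.Etdl.H426.ConstFam

open Groth.Agent.EtpbcB.Big Groth.Agent.Sga4h.FamAdd
open Groth.Agent.Etdl.H440.FamGlue (exists_algPoint)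
open Groth.Agent.Sga4h.ConstCrit (toTop constIsoSheaf toTop_unique)

variable {S : Scheme.{u}} {n : ℕ}

theorem val_nsmul_eq {A : Type*} [AddCommGroup A] (hn : 0 < n) {a : A} (ha : n • a = 0) (k : ℤ) :
    (k : ZMod n).val • a = k • a := by
  have : NeZero n := ⟨hn.ne'⟩
  have h1 : ((k : ZMod n).val : ℤ) = k % n := ZMod.val_intCast k
  have h2 : (k : ZMod n).val • a = ((k : ZMod n).val : ℤ) • a := (natCast_zsmul _ _).symm
  rw [h2, h1]
  have h3 : k = k % n + n * (k / n) := (Int.emod_add_mul_ediv k n).symm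
  conv_rhs => rw [h3]
  rw [add_smul, mul_comm, mul_smul, natCast_zsmul, ha, smul_zero, add_zero]

/-- A sheaf killed by `n` with a section whose germs at the algebraically closed points are bases. -/
theorem nonempty_iso (hn : 0 < n) (F : EtCoh.Ab S) (σ : EtCoh.sect F (EtCoh.top S)) (hσ : n • σ = 0)
    (h : ∀ (Ω : Type u) [Field Ω] [IsAlgClosed Ω] (s : Spec (.of Ω) ⟶ S),
      Function.Bijective (fun m : ZMod n => m.val • germ F (U := EtCoh.top S) s (Category.comp_id s) σ)) :
    Nonempty (EtCoh.const S (ZMod n) ≅ F) := by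
  have hres : ∀ (W : S.Etale) (Ω : Type u) [Field Ω] [IsAlgClosed Ω] (l : Spec (.of Ω) ⟶ W.left),
      germ F l rfl (F.obj.map (toTop W).op σ) =
        germ F (U := EtCoh.top S) (l ≫ W.hom) (Category.comp_id _) σ := fun W Ω _ _ l =>
    germ_res' F (toTop W) l rfl (l ≫ W.hom) (Category.comp_id _) rfl σ
  have hk : ∀ (Ω : Type u) [Field Ω] [IsAlgClosed Ω] (s : Spec (.of Ω) ⟶ S),
      n • germ F (U := EtCoh.top S) s (Category.comp_id s) σ = 0 := by
    intro Ω _ _ s
    rw [← map_nsmul, hσ, map_zero]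
  refine ⟨constIsoSheaf F σ hσ ?_ ?_⟩
  · rintro W ⟨w⟩ k hk0
    obtain ⟨Ω, _, _, l, -⟩ := exists_algPoint W.left w
    have h1 := congrArg (germ F l rfl) hk0
    rw [map_zsmul, map_zero, hres] at h1
    have h2 := (val_nsmul_eq hn (hk Ω (l ≫ W.hom)) k).trans h1
    apply (h Ω (l ≫ W.hom)).1
    refine h2.trans ?_
    have : NeZero n := ⟨hn.ne'⟩
    simp
  · intro W s w
    obtain ⟨Ω, _, _, l, hl⟩ := exists_algPoint W.left w
    obtain ⟨m, hm⟩ := (h Ω (l ≫ W.hom)).2 (germ F l rfl s)
    have h1 : germ F l rfl s = germ F l rfl (m.val • F.obj.map (toTop W).op σ) := by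
      rw [map_nsmul, hres, ← hm]
      rfl
    obtain ⟨V, g, m', hm', e⟩ := (germ_eq_iff F l rfl _ _).1 h1
    refine ⟨V, g, m' default, (m.val : ℤ), ?_, ?_⟩
    · rw [← hl, ← hm']
      rfl
    · refine e.trans ?_
      rw [map_nsmul, natCast_zsmul]
      congr 1
      refine (et_map_map F g (toTop W) σ).trans ?_
      rw [toTop_unique (g ≫ toTop W) (toTop V)]

/-- The same, for a local family. -/
theorem nonempty_iso_fam (hn : 0 < n) (F : EtCoh.Ab S) (hF : n • 𝟙 F = 0) (v : Fam F (𝟙 S)) (hv : IsLoc v)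
    (h : ∀ (Ω : Type u) [Field Ω] [IsAlgClosed Ω] (s : Spec (.of Ω) ⟶ S),
      Function.Bijective (fun m : ZMod n => m.val • v Ω s s (Category.comp_id s))) :
    Nonempty (EtCoh.const S (ZMod n) ≅ F) := by
  obtain ⟨σ, hσ⟩ := exists_sect (V := EtCoh.top S) v hv
  refine nonempty_iso hn F σ ?_ ?_
  · have h1 := congrArg (fun k : F ⟶ F => k.hom.app (op (EtCoh.top S)) σ) hF
    exact h1
  · intro Ω _ _ s
    have h1 : germ F (U := EtCoh.top S) s (Category.comp_id s) σ = v Ω s s (Category.comp_id s) :=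
      Fam.congr_fun hσ s (Category.comp_id s)
    rw [h1]
    exact h Ω s

end Groth.Agent.Etdl.H426.ConstFam
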