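import Groth.Agent.Etcore.LFreeGen
import Groth.Agent.Etdl.H426.Iface
import Groth.Agent.Etdl.H426.Bij
import Groth.Agent.Etdl.H423.ModBasic
import Groth.Agent.Etrest.RDer1

/-!
# Coproducts of `Λ[V]`, `V` in a basis; bijectivity of `phi`

* `exists_cover` : every sheaf of modules is a quotient of a coproduct of `Λ[V]`, `V` in a basis;
* `epi_Rsh_map` : `R^N f_!` preserves epimorphisms if `R^{N+1} f_! = 0`;
* `bijective_phi` : `phi` is bijective for all sheaves if it is so for `Λ[V]`, `V` in a basis;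
* `exists_epi_kill` : local vanishing gives an epimorphism `M' ⟶ M` killed by all `R^i f_!`, `i < N`.
-/

set_option autoImplicit false
universe u

open CategoryTheory CategoryTheory.Limits AlgebraicGeometry Opposite

namespace Groth.Agent.Etdl.H426.Cover

open Groth.Agent.Etcore Groth.Agent.Etcore.LFree Groth.Agent.Etcore.LFreeGen
open Groth.Agent.Etcore.LVan
open Groth.Agent.Etdl.H426.Iface

variable {Λ : Type (u + 1)} [CommRing Λ] {X S : Scheme.{u}}

theorem epi_of_local {F P : EtModW.Mod Λ X} (p : P ⟶ F)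
    (h : ∀ (U : X.Etale) (s : EtModW.sect Λ F U) (x : U.left), ∃ (V : X.Etale) (g : V ⟶ U)
      (q : LM Λ V ⟶ P), x ∈ Set.range g.left ∧ q ≫ p = desc (res F g s)) : Epi p := by
  rw [epi_iff]
  intro U t x
  obtain ⟨V, g, q, ⟨v, hv⟩, hq⟩ := h U t x
  refine ⟨V, g, v, ev q V (gen Λ V), hv, ?_⟩
  rw [← comp_ev, hq, desc_gen]

/-- The index set: sections with a point. -/
def Ix (F : EtModW.Mod Λ X) : Type (u + 1) := Σ (U : X.Etale) (_ : EtModW.sect Λ F U), U.left

attribute [local instance] LFreeGen.hasCoproduct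

/-- Every sheaf of modules is a quotient of a coproduct of `Λ[V]`, `V` in a basis. -/
theorem exists_cover (Q : ∀ {U V : X.Etale} (_ : V ⟶ U), Prop)
    (hQ : ∀ (U : X.Etale) (x : U.left), ∃ (V : X.Etale) (g : V ⟶ U), x ∈ Set.range g.left ∧ Q g)
    (F : EtModW.Mod Λ X) :
    ∃ (ι : Type (u + 1)) (U V : ι → X.Etale) (g : ∀ i, V i ⟶ U i)
      (s : ∀ i, EtModW.sect Λ F (U i)), (∀ i, Q (g i)) ∧
      Epi (Sigma.desc (fun i => desc (res F (g i) (s i))) : (∐ fun i => LM Λ (V i)) ⟶ F) := by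
  choose V g hx hg using hQ
  refine ⟨Ix F, fun i => i.1, fun i => V i.1 i.2.2, fun i => g i.1 i.2.2, fun i => i.2.1,
    fun i => hg _ _, ?_⟩
  refine epi_of_local _ fun U s x => ?_
  refine ⟨V U x, g U x, Sigma.ι (fun i : Ix F => LM Λ (V i.1 i.2.2)) ⟨U, s, x⟩, hx U x, ?_⟩
  exact Sigma.ι_desc _ _

section

variable {f : X ⟶ S} (c : DEt.Compactification f)

theorem shortExact_extZeroMod {T : ShortComplex (EtModW.Mod Λ X)} (hT : T.ShortExact) :
    (T.map (EtDl.extZeroMod Λ c.j)).ShortExact :=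
  hT.map_of_exact (EtDl.extZeroMod Λ c.j)

/-- `R^N f_!` preserves epimorphisms if `R^{N+1} f_! = 0`. -/
theorem epi_Rsh_map (N : ℕ) (hN : ∀ M : EtModW.Mod Λ X, IsZero ((Rsh Λ c (N + 1)).obj M))
    {M M' : EtModW.Mod Λ X} (p : M' ⟶ M) [Epi p] : Epi ((Rsh Λ c N).map p) := by
  have hT : (ShortComplex.mk (kernel.ι p) p (kernel.condition p)).ShortExact :=
    { exact := ShortComplex.exact_kernel p
      mono_f := inferInstance
      epi_g := inferInstance }
  exact (Groth.Agent.Etrest.RDer1.exact₃ (EtModW.push Λ c.fbar) (shortExact_extZeroMod c hT)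
    N).epi_f ((hN _).eq_of_tgt _ _)

instance additive_Rsh (q : ℕ) : (Rsh Λ c q).Additive := inferInstance

theorem jointly_epi (N : ℕ) {ι : Type (u + 1)}
    [PreservesColimitsOfShape (Discrete ι) (EtModW.Rpush Λ c.fbar N)] (V : ι → EtModW.Mod Λ X)
    {L : EtModW.Mod Λ S} (b b' : (Rsh Λ c N).obj (∐ V) ⟶ L)
    (h : ∀ i, (Rsh Λ c N).map (Sigma.ι V i) ≫ b = (Rsh Λ c N).map (Sigma.ι V i) ≫ b') : b = b' := by
  have h1 : IsColimit ((Rsh Λ c N).mapCocone (colimit.cocone (Discrete.functor V))) :=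
    isColimitOfPreserves (Rsh Λ c N) (colimit.isColimit _)
  refine h1.hom_ext fun i => ?_
  exact h i.as

/-- Bijectivity of `phi` for all sheaves from the case of `Λ[V]`, `V` in a basis. -/
theorem bijective_phi {ω : EtModW.Mod Λ X} {N : ℕ}
    (hN : ∀ M : EtModW.Mod Λ X, IsZero ((Rsh Λ c (N + 1)).obj M))
    (hC : ∀ ι : Type (u + 1), PreservesColimitsOfShape (Discrete ι) (EtModW.Rpush Λ c.fbar N))
    (tr : T1 Λ f ω ⋙ Rsh Λ c N ⟶ 𝟭 _) (L : EtModW.Mod Λ S)
    (hV : ∀ (U : X.Etale) (x : U.left), ∃ (V : X.Etale) (g : V ⟶ U), x ∈ Set.range g.left ∧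
      Function.Bijective (phi tr (LM Λ V) L)) (M : EtModW.Mod Λ X) :
    Function.Bijective (phi tr M L) := by
  refine Bij.bijective_of_generates (P := Rsh Λ c N) (T := T1 Λ f ω) tr L ?_
    (fun p _ => epi_Rsh_map c N hN p) M
  intro F
  obtain ⟨ι, U, V, g, s, h1, h2⟩ := exists_cover (fun {U V} _ => Function.Bijective (phi tr (LM Λ V) L))
    hV F
  refine ⟨_, _, h2, ?_⟩
  have := hC ι
  exact Bij.bijective_sigma tr _ L (fun b b' h => jointly_epi c N _ b b' h) h1

/-- Local vanishing gives an epimorphism killed by `R^q f_!`. -/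
theorem exists_epi_kill (q : ℕ)
    (hC : ∀ ι : Type (u + 1), PreservesColimitsOfShape (Discrete ι) (EtModW.Rpush Λ c.fbar q))
    (hV : ∀ (U : X.Etale) (x : U.left), ∃ (V : X.Etale) (g : V ⟶ U), x ∈ Set.range g.left ∧
      (Rsh Λ c q).map (LFree.map (Λ := Λ) g) = 0) (M : EtModW.Mod Λ X) :
    ∃ (M' : EtModW.Mod Λ X) (p : M' ⟶ M), Epi p ∧ (Rsh Λ c q).map p = 0 := by
  obtain ⟨ι, U, V, g, s, h1, h2⟩ :=
    exists_cover (fun {U V} g => (Rsh Λ c q).map (LFree.map (Λ := Λ) g) = 0) hV M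
  refine ⟨_, _, h2, ?_⟩
  have := hC ι
  refine jointly_epi c q _ _ _ fun i => ?_
  rw [← Functor.map_comp, Sigma.ι_desc, ← LFree.map_desc, Functor.map_comp, h1, zero_comp,
    comp_zero]

end

end Groth.Agent.Etdl.H426.Cover
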