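import Groth.Agent.Etdl.H426.Assemble
import Groth.Agent.Etdl.H426.FibDim
import Groth.Agent.Etdl.H423.ShriekMod
import Groth.Agent.Etdl.H423.PushModCoprod
import Groth.Agent.Etdl.H860.PD
import Groth.Agent.S3722

/-!
# Poincaré duality as an adjunction, from the trace and the local vanishing
-/

set_option autoImplicit false
universe u

open CategoryTheory CategoryTheory.Limits AlgebraicGeometry Opposite

attribute [local instance] HasDerivedCategory.standard

namespace Groth.Agent.Etdl.H426.Final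

open Groth.Agent.Etcore Groth.Agent.Etdl.H426.Iface

theorem natCast_lam (n : ℕ) : (n : ULift.{u + 1} (ZMod n)) = 0 := by
  apply ULift.down_injective
  simp

theorem main (hT : StmtTrace.{u}) (hE : StmtEff.{u}) {X S : Scheme.{u}}
    [CompactSpace ↥X] [QuasiSeparatedSpace ↥X] [CompactSpace ↥S] [QuasiSeparatedSpace ↥S]
    {f : X ⟶ S} (d : ℕ) [SmoothOfRelativeDimension d f] (c : DEt.Compactification f)
    (n : ℕ) (hn0 : 0 < n) (hn : IsUnit (n : Γ(S, ⊤)))
    (μ : EtModW.Mod (ULift.{u + 1} (ZMod n)) X) (hμ : EtModD.IsKummer n μ) :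
    Nonempty (EtDl.RshriekPlus (ULift.{u + 1} (ZMod n)) c ⊣
      EtDl.twistedPullPlus (ULift.{u + 1} (ZMod n)) f (EtModD.tate μ d) (2 * (d : ℤ))) :=
  Assemble.main H860.PD.stmtAdj hT hE d c n hn0 hn μ hμ
    (fun M i hi => H423.ShriekMod.isZero_Rpush_extZeroMod _ c d (fun s => FibDim.fiber_le d f s) n
      hn0 (natCast_lam n) M i hi)
    (fun q _ => H423.PushModCoprod.preservesColimitsOfShape_rightDerived_push _ c.fbar q _)
    (Groth.Agent.S3722.result c _ n hn0 (natCast_lam n))

end Groth.Agent.Etdl.H426.Final
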